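import Groth.Agent.Lib.Helper16.KosTor.Flat
import Groth.Agent.Lib.Helper93.KoszulPoly
import Groth.Agent.Lib.Helper94.KoszulBridge
import Groth.Agent.Lib.Helper35.KoszulPerf
import Groth.Agent.Lib.Helper10.KoszulComp
import Groth.Agent.Lib.Helper90.DTen.BC.PerfMod

/-!
# The two sections of `S[t_1..t_c] → S` (helper90)

For a Koszul-regular sequence `l` of length `c` in `S`: the variables of `S[t]` are Koszul-regular,
`S[t]/(t) ≅ S`, `S[t]/(t)` is a perfect `S[t]`-module, and `S[t]/(t)` is tor independent of `S`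
viewed as an `S[t]`-algebra through `t_i ↦ l_i`.
-/

set_option autoImplicit false
set_option linter.unusedSectionVars false
set_option linter.style.haveILetI false
universe u
open CategoryTheory CategoryTheory.Limits
attribute [local instance] HasDerivedCategory.standard

namespace Groth.Agent.Lib.Helper90.Lci

open MvPolynomial Groth.Agent.Lib.Helper93.KoszulPoly

section Vars

variable (S : Type u) [CommRing S] (c : ℕ)

theorem isKoszulRegularSeq_vars :
    LCI.IsKoszulRegularSeq (MvPolynomial (Fin c) S) (vars S c) := by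
  have h := isWeaklyRegular_xpow S c 1
  have e : xpow S c 1 = vars S c := by
    unfold xpow
    simp only [pow_one]
  rw [e] at h
  exact Groth.Agent.Lib.Helper94.isKoszulRegularSeq_of_isWeaklyRegular _ _ h

lemma X_mem (j : Fin c) : (X j : MvPolynomial (Fin c) S) ∈ Ideal.ofList (vars S c) :=
  Ideal.subset_span ((List.mem_ofFn' _ _).2 ⟨j, rfl⟩)

/-- `S → S[t]/(t)` -/
noncomputable def epsHom : S →+* (MvPolynomial (Fin c) S ⧸ Ideal.ofList (vars S c)) :=
  (Ideal.Quotient.mk _).comp MvPolynomial.C

lemma ofList_vars_le_ker (w : Fin c → S) (T : Type u) [CommRing T] (f : S →+* T)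
    (hw : ∀ j, f (w j) = 0) :
    Ideal.ofList (vars S c) ≤
      RingHom.ker (f.comp (MvPolynomial.eval₂Hom (RingHom.id S) w)) := by
  rw [Ideal.ofList, Ideal.span_le]
  intro x hx
  obtain ⟨j, rfl⟩ := (List.mem_ofFn' _ _).1 hx
  simp [RingHom.mem_ker, hw]

/-- `S[t]/(t) → S` -/
noncomputable def epsInv : (MvPolynomial (Fin c) S ⧸ Ideal.ofList (vars S c)) →+* S :=
  Ideal.Quotient.lift _ ((RingHom.id S).comp
    (MvPolynomial.eval₂Hom (RingHom.id S) (fun _ => (0 : S))))
    (fun _ ha => ofList_vars_le_ker S c (fun _ => 0) S (RingHom.id S) (fun _ => rfl) ha)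

/-- `S ≅ S[t]/(t)` -/
noncomputable def epsEquiv : S ≃+* (MvPolynomial (Fin c) S ⧸ Ideal.ofList (vars S c)) :=
  RingEquiv.ofRingHom (epsHom S c) (epsInv S c)
    (by
      apply Ideal.Quotient.ringHom_ext
      apply MvPolynomial.ringHom_ext
      · intro s
        simp [epsHom, epsInv]
      · intro j
        have h0 : (epsInv S c) ((Ideal.Quotient.mk (Ideal.ofList (vars S c))) (X j)) = 0 := by
          change ((RingHom.id S).comp
            (MvPolynomial.eval₂Hom (RingHom.id S) (fun _ => (0 : S)))) (X j) = 0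
          simp
        change (epsHom S c) ((epsInv S c) ((Ideal.Quotient.mk (Ideal.ofList (vars S c))) (X j))) =
          (Ideal.Quotient.mk (Ideal.ofList (vars S c))) (X j)
        rw [h0, map_zero]
        exact (Ideal.Quotient.eq_zero_iff_mem.2 (X_mem S c j)).symm)
    (by
      ext s
      simp [epsHom, epsInv])

lemma eval₂Hom_eps :
    MvPolynomial.eval₂Hom (epsEquiv S c).toRingHom (fun _ => 0) =
      algebraMap (MvPolynomial (Fin c) S) (MvPolynomial (Fin c) S ⧸ Ideal.ofList (vars S c)) := by
  apply MvPolynomial.ringHom_ext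
  · intro s
    simp [epsEquiv, epsHom]
  · intro j
    simp only [MvPolynomial.coe_eval₂Hom, MvPolynomial.eval₂_X]
    exact (Ideal.Quotient.eq_zero_iff_mem.2 (X_mem S c j)).symm

theorem isPerfectModule_quot :
    DRing.IsPerfectModule (MvPolynomial (Fin c) S)
      (MvPolynomial (Fin c) S ⧸ Ideal.ofList (vars S c)) := by
  have h := Groth.Agent.Lib.Helper35.KzP.isPerfect_quotient_of_isKoszulRegularSeq
    (vars S c) (isKoszulRegularSeq_vars S c)
  exact Groth.Agent.Lib.Helper35.KL.isPerfect_of_iso
    ((DerivedCategory.singleFunctorIsoCompQ (ModuleCat.{u} (MvPolynomial (Fin c) S)) 0).app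
      (ModuleCat.of (MvPolynomial (Fin c) S)
        (MvPolynomial (Fin c) S ⧸ Ideal.ofList (vars S c)))).symm h

end Vars

section Sigma

variable {S : Type u} [CommRing S]

/-- the section `t_i ↦ l_i` -/
noncomputable def sigma (l : List S) : MvPolynomial (Fin l.length) S →+* S :=
  MvPolynomial.eval₂Hom (RingHom.id S) (fun i => l.get i)

lemma vars_map_sigma (l : List S) : (vars S l.length).map (sigma l) = l := by
  rw [List.map_ofFn]
  have h : ((sigma l) ∘ fun j : Fin l.length => (X j : MvPolynomial (Fin l.length) S)) = l.get := by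
    funext j
    simp [sigma]
  rw [h, List.ofFn_get]

theorem subsingleton_tor (l : List S) (hl : LCI.IsKoszulRegularSeq S l) (p : ℕ) (hp : 1 ≤ p) :
    letI : Algebra (MvPolynomial (Fin l.length) S) S := (sigma l).toAlgebra
    Subsingleton (DRing.Tor (MvPolynomial (Fin l.length) S) p
      (MvPolynomial (Fin l.length) S ⧸ Ideal.ofList (vars S l.length)) S) := by
  letI : Algebra (MvPolynomial (Fin l.length) S) S := (sigma l).toAlgebra
  obtain ⟨e⟩ := Groth.Agent.Lib.Helper16.KosTor.nonempty_iso_tor (vars S l.length)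
    (isKoszulRegularSeq_vars S l.length) p
    ((ModuleCat.restrictScalars.{u} (sigma l)).obj (ModuleCat.of S S))
  have hz : IsZero ((CohIII.koszulCx ((ModuleCat.restrictScalars.{u} (sigma l)).obj
      (ModuleCat.of S S)) (vars S l.length)).homology (-(p : ℤ))) := by
    apply Groth.Agent.Lib.Helper10.KoszulComp.isZero_homology_koszulCx_restrict (sigma l)
      (vars S l.length) (-(p : ℤ))
    rw [vars_map_sigma]
    exact hl _ (by omega)
  have hz' := hz.of_iso e.symm
  have e2 := ((Tor (ModuleCat.{u} (MvPolynomial (Fin l.length) S)) p).obj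
    (ModuleCat.of (MvPolynomial (Fin l.length) S)
      (MvPolynomial (Fin l.length) S ⧸ Ideal.ofList (vars S l.length)))).mapIso
    (Groth.Agent.Lib.Helper90.DTen.BC.resSelfIso (MvPolynomial (Fin l.length) S) S)
  exact ModuleCat.subsingleton_of_isZero (hz'.of_iso e2)

end Sigma

end Groth.Agent.Lib.Helper90.Lci
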