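import Groth.Agent.Lib.Helper90.Lci.KoszulAlg
import Groth.Agent.Lib.Helper90.Shriek.FlatBC2
import Groth.Agent.Lib.Helper90.Shriek.Unique
import Groth.Agent.Lib.Helper59.SurjPushout
import Groth.Agent.Lib.Helper6.FlatPC

/-!
# `RHom_S(S/(l), S) ≅ (S/(l))[-c]` for a Koszul-regular sequence `l` of length `c` (helper90)

Any right adjoint `Rπ` of restriction of scalars along `S → T = S/(l)` satisfies
`Rπ(S[0])[c] ≅ T[0]`.  Proof by the two sections `t ↦ 0`, `t ↦ l` of `S[t_1..t_c] → S` and tor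
independent perfect base change.
-/

set_option autoImplicit false
set_option linter.unusedSectionVars false
set_option linter.style.haveILetI false
universe u
open CategoryTheory CategoryTheory.Limits DerivedCategory
attribute [local instance] HasDerivedCategory.standard

namespace Groth.Agent.Lib.Helper90.Lci

open MvPolynomial Groth.Agent.Lib.Helper93.KoszulPoly Groth.Agent.Lib.Helper90.Shriek

section Adj

variable {C D : Type*} [Category C] [Category D]

end Adj

section Base

variable (S : Type u) [CommRing S] (c : ℕ)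

/-- The value at `S[t][c]` of a right adjoint of restriction along `S[t] → S[t]/(t)` is the
unit. -/
theorem nonempty_rhom_quot_iso
    (Rφ : Dual.D (MvPolynomial (Fin c) S) ⥤
      Dual.D (MvPolynomial (Fin c) S ⧸ Ideal.ofList (vars S c)))
    (adjφ : DRing.restrictD (algebraMap (MvPolynomial (Fin c) S)
      (MvPolynomial (Fin c) S ⧸ Ideal.ofList (vars S c))) ⊣ Rφ) :
    Nonempty (Rφ.obj ((Dual.inD (MvPolynomial (Fin c) S) (MvPolynomial (Fin c) S))⟦(c : ℤ)⟧) ≅
      Dual.inD (MvPolynomial (Fin c) S ⧸ Ideal.ofList (vars S c))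
        (MvPolynomial (Fin c) S ⧸ Ideal.ofList (vars S c))) := by
  obtain ⟨K₀, hK₀, ⟨eK⟩⟩ := Groth.Agent.Lib.Helper32.LBC.exists_kproj_iso (Dual.inD S S)
  haveI := hK₀
  haveI := hasLBaseChange (RingHom.id S)
  haveI := hasLBaseChange (epsEquiv S c).toRingHom
  obtain ⟨Rε, ⟨adjε⟩⟩ := exists_rightAdjoint_restrictD (epsEquiv S c).toRingHom
  have H0 := Inv.start K₀ (RingHom.id S) (epsEquiv S c).toRingHom Rε adjε (Dual.inD S S) eK 0
  have H1 := H0.addVars K₀ _ _ _ _ c (fun _ => 0) (fun j => ⟨0, map_zero _⟩)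
  rw [eval₂Hom_eps, zero_add, RingHom.comp_id, ← MvPolynomial.algebraMap_eq] at H1
  haveI := hasLBaseChange (algebraMap S (MvPolynomial (Fin c) S))
  obtain ⟨cc, hcc⟩ := H1
  obtain ⟨eU⟩ := Groth.Agent.Lib.Helper6.FlatPC.nonempty_lbc_unit_iso (A := S)
    (B := MvPolynomial (Fin c) S)
  let eZ : Q.obj ((DTen.extCx (algebraMap S (MvPolynomial (Fin c) S))).obj K₀) ≅
      Dual.inD (MvPolynomial (Fin c) S) (MvPolynomial (Fin c) S) :=
    (Groth.Agent.Lib.Helper32.LBC.lbcIso (algebraMap S (MvPolynomial (Fin c) S)) K₀).symm ≪≫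
      (DRing.LBaseChange (algebraMap S (MvPolynomial (Fin c) S))).mapIso eK ≪≫ eU
  have h2 := hcc.of_iso_target ((shiftFunctor (Dual.D (MvPolynomial (Fin c) S)) (c : ℤ)).mapIso eZ)
  have hu := isUniv_counit adjφ
    ((Dual.inD (MvPolynomial (Fin c) S) (MvPolynomial (Fin c) S))⟦(c : ℤ)⟧)
  obtain ⟨eW, -⟩ := hu.exists_iso h2
  obtain ⟨eU0⟩ := Groth.Agent.Lib.Helper6.FlatPC.nonempty_lbc_unit_iso (A := S) (B := S)
  let e1 : Rε ≅ DRing.restrictD (epsEquiv S c).symm.toRingHom :=
    adjε.rightAdjointUniq (resDEquiv (epsEquiv S c)).toAdjunction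
  let e2 : DRing.LBaseChange (epsEquiv S c).toRingHom ≅
      DRing.restrictD (epsEquiv S c).symm.toRingHom :=
    (Groth.Agent.Lib.Helper6.LBCPC.lbcAdj (epsEquiv S c).toRingHom).leftAdjointUniq
      (resDEquiv (epsEquiv S c)).symm.toAdjunction
  have hU1 : Nonempty ((DRing.LBaseChange (epsEquiv S c).toRingHom).obj (Dual.inD S S) ≅
      Dual.inD (MvPolynomial (Fin c) S ⧸ Ideal.ofList (vars S c))
        (MvPolynomial (Fin c) S ⧸ Ideal.ofList (vars S c))) := by
    letI algε : Algebra S (MvPolynomial (Fin c) S ⧸ Ideal.ofList (vars S c)) :=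
      (epsEquiv S c).toRingHom.toAlgebra
    exact @Groth.Agent.Lib.Helper6.FlatPC.nonempty_lbc_unit_iso S
      (MvPolynomial (Fin c) S ⧸ Ideal.ofList (vars S c)) _ _ algε _
  obtain ⟨eU1⟩ := hU1
  exact ⟨eW ≪≫ (shiftFunctorZero _ ℤ).app _ ≪≫ Rε.mapIso eU0 ≪≫ e1.app _ ≪≫ (e2.app _).symm ≪≫ eU1⟩

end Base

section Main

variable (S T : Type u) [CommRing S] [CommRing T] [Algebra S T]

/-- **Fundamental local isomorphism**: for `T = S/(l)` with `l` Koszul-regular of length `c`, any
right adjoint `Rπ` of restriction along `S → T` has `Rπ(S[0])[c] ≅ T[0]`. -/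
theorem nonempty_rhom_koszul_iso (hsurj : Function.Surjective (algebraMap S T)) (l : List S)
    (hl : LCI.IsKoszulRegularSeq S l)
    (hker : RingHom.ker (algebraMap S T) = Ideal.span {x | x ∈ l})
    (Rπ : Dual.D S ⥤ Dual.D T) (adj : DRing.restrictD (algebraMap S T) ⊣ Rπ) :
    Nonempty ((Rπ.obj (Dual.inD S S))⟦(l.length : ℤ)⟧ ≅ Dual.inD T T) := by
  letI algS : Algebra (MvPolynomial (Fin l.length) S) S := (sigma l).toAlgebra
  have hlz : ∀ j : Fin l.length, algebraMap S T (l.get j) = 0 := by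
    intro j
    have h : l.get j ∈ RingHom.ker (algebraMap S T) := by
      rw [hker]
      exact Ideal.subset_span (List.get_mem l j)
    exact h
  have hle := ofList_vars_le_ker S l.length (fun i => l.get i) T (algebraMap S T) hlz
  letI algQT : Algebra (MvPolynomial (Fin l.length) S ⧸ Ideal.ofList (vars S l.length)) T :=
    (Ideal.Quotient.lift _ ((algebraMap S T).comp (sigma l)) (fun _ ha => hle ha)).toAlgebra
  letI algStT : Algebra (MvPolynomial (Fin l.length) S) T :=
    ((algebraMap S T).comp (sigma l)).toAlgebra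
  haveI : IsScalarTower (MvPolynomial (Fin l.length) S) S T :=
    IsScalarTower.of_algebraMap_eq (fun _ => rfl)
  haveI : IsScalarTower (MvPolynomial (Fin l.length) S)
      (MvPolynomial (Fin l.length) S ⧸ Ideal.ofList (vars S l.length)) T := by
    have h := IsScalarTower.of_algebraMap_eq (R := MvPolynomial (Fin l.length) S)
      (S := MvPolynomial (Fin l.length) S ⧸ Ideal.ofList (vars S l.length)) (A := T)
      (fun _ => rfl)
    exact h
  haveI : Algebra.IsPushout (MvPolynomial (Fin l.length) S)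
      (MvPolynomial (Fin l.length) S ⧸ Ideal.ofList (vars S l.length)) S T := by
    refine Groth.Agent.Lib.Helper59.SurjPushout.isPushout_of_surjective _ _ _ _
      Ideal.Quotient.mk_surjective hsurj ?_
    rw [hker, Ideal.span_le]
    intro x hx
    obtain ⟨j, rfl⟩ := List.mem_iff_get.1 hx
    have h : l.get j = algebraMap (MvPolynomial (Fin l.length) S) S (X j) := by
      change _ = sigma l (X j)
      simp [sigma]
    rw [h]
    apply Ideal.mem_map_of_mem
    rw [RingHom.mem_ker]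
    exact Ideal.Quotient.eq_zero_iff_mem.2 (X_mem S l.length j)
  haveI := hasLBaseChange (algebraMap (MvPolynomial (Fin l.length) S) S)
  haveI := hasLBaseChange (algebraMap
    (MvPolynomial (Fin l.length) S ⧸ Ideal.ofList (vars S l.length)) T)
  obtain ⟨Rφ, ⟨adjφ⟩⟩ := exists_rightAdjoint_restrictD (algebraMap (MvPolynomial (Fin l.length) S)
    (MvPolynomial (Fin l.length) S ⧸ Ideal.ofList (vars S l.length)))
  obtain ⟨bc⟩ := nonempty_perf_bc_iso (MvPolynomial (Fin l.length) S)
    (MvPolynomial (Fin l.length) S ⧸ Ideal.ofList (vars S l.length)) S T adjφ adj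
    (isPerfectModule_quot S l.length) (fun p hp => subsingleton_tor l hl p hp)
    ((Dual.inD (MvPolynomial (Fin l.length) S) (MvPolynomial (Fin l.length) S))⟦(l.length : ℤ)⟧)
  obtain ⟨e1⟩ := nonempty_rhom_quot_iso S l.length Rφ adjφ
  obtain ⟨eUT⟩ := Groth.Agent.Lib.Helper6.FlatPC.nonempty_lbc_unit_iso
    (A := MvPolynomial (Fin l.length) S ⧸ Ideal.ofList (vars S l.length)) (B := T)
  obtain ⟨eUS⟩ := Groth.Agent.Lib.Helper6.FlatPC.nonempty_lbc_unit_iso
    (A := MvPolynomial (Fin l.length) S) (B := S)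
  letI := Groth.Agent.Lib.Helper6.LBCPC.lbcCommShift (algebraMap (MvPolynomial (Fin l.length) S) S)
  let e2 : (DRing.LBaseChange (algebraMap (MvPolynomial (Fin l.length) S) S)).obj
      ((Dual.inD (MvPolynomial (Fin l.length) S)
        (MvPolynomial (Fin l.length) S))⟦(l.length : ℤ)⟧) ≅ (Dual.inD S S)⟦(l.length : ℤ)⟧ :=
    ((DRing.LBaseChange (algebraMap (MvPolynomial (Fin l.length) S) S)).commShiftIso
      (l.length : ℤ)).app _ ≪≫ (shiftFunctor (Dual.D S) (l.length : ℤ)).mapIso eUS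
  have u1 := (isUniv_counit adj (Dual.inD S S)).shift (l.length : ℤ)
  have u2 := isUniv_counit adj ((Dual.inD S S)⟦(l.length : ℤ)⟧)
  obtain ⟨e3, -⟩ := u1.exists_iso u2
  exact ⟨e3 ≪≫ Rπ.mapIso e2.symm ≪≫ bc.symm ≪≫
    (DRing.LBaseChange (algebraMap
      (MvPolynomial (Fin l.length) S ⧸ Ideal.ofList (vars S l.length)) T)).mapIso e1 ≪≫ eUT⟩

end Main

end Groth.Agent.Lib.Helper90.Lci
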